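import Groth.Agent.MultSchFac.Local
import Groth.Agent.AlgStLib.FppfSite
import Groth.Agent.SchTorsor.Props
import Groth.Agent.EtFound.Descent
import Groth.Agent.GrpSchLib.AntiAffineHom
import Groth.Prelude.Def_AlgGrp

/-!
# Short exact sequences of sheaves of points over a field: the middle term and the maps
-/

noncomputable section

set_option autoImplicit false
set_option linter.style.haveILetI false
set_option linter.unusedSectionVars false
set_option backward.isDefEq.respectTransparency false
set_option backward.isDefEq.respectTransparency.types false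

universe u

open CategoryTheory CategoryTheory.Limits MonoidalCategory CartesianMonoidalCategory MonObj GrpObj AlgebraicGeometry Opposite

attribute [local instance] CategoryTheory.Hom.monoid CategoryTheory.Hom.group

namespace Groth.Agent.OneMotLib

open Groth.Agent.MultSchFac

section Gen

variable {S : Scheme.{u}} {F G H : Over S} [GrpObj F] [IsCommMonObj F] [GrpObj G] [IsCommMonObj G] [GrpObj H]
  [IsCommMonObj H] (u : F ⟶ G) (v : G ⟶ H) [IsMonHom u] [IsMonHom v] (w : u ≫ v = 1)
  (hex : (CGrpSh.seq Scheme.fppfPrecoverage u v w).ShortExact)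

include w hex

theorem mono_of_shortExact : Mono u := by
  haveI : Mono (CGrpSh.ptsMap Scheme.fppfPrecoverage u) := hex.mono_f
  refine ⟨fun {T} a b h => ?_⟩
  have h1 := SiteBase.sheaf_app_injective (CGrpSh.ptsMap Scheme.fppfPrecoverage u) T
    (a₁ := ULift.up (Additive.ofMul a)) (a₂ := ULift.up (Additive.ofMul b)) (ULift.ext _ _ (congrArg Additive.ofMul h))
  exact congrArg (fun z : ULift _ => Additive.toMul (ULift.down z)) h1

/-- Points killed by the projection come from the subgroup. -/
theorem exists_lift_of_shortExact {T : Over S} (x : T ⟶ G) (hx : x ≫ v = 1) : ∃ z : T ⟶ F, z ≫ u = x := by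
  haveI := mono_of_shortExact u v w hex
  obtain ⟨R, hR, hlift⟩ := lift_of_exact u v w hex.exact x hx
  choose z hz using hlift
  let fam : Presieve.FamilyOfElements (yoneda.obj F) R.arrows := fun W f hf => z f hf
  have hfam : fam.Compatible := by
    intro W₁ W₂ V g₁ g₂ f₁ f₂ h₁ h₂ e
    show g₁ ≫ z f₁ h₁ = g₂ ≫ z f₂ h₂
    rw [← cancel_mono u, Category.assoc, Category.assoc, hz, hz, reassoc_of% e]
  obtain ⟨z₀, hz₀, -⟩ :=
    (GrothendieckTopology.Subcanonical.isSheaf_of_isRepresentable (J := QuotSh.J Scheme.fppfPrecoverage S) (yoneda.obj F))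
      R hR fam hfam
  refine ⟨z₀, hom_ext_cover _ hR fun W f hf => ?_⟩
  rw [← Category.assoc, show f ≫ z₀ = z f hf from hz₀ f hf, hz]

/-- The subgroup is the kernel of the projection. -/
theorem isKernel_of_shortExact : AlgGrp.IsKernel u v := by
  haveI := mono_of_shortExact u v w hex
  refine IsPullback.of_isLimit' ⟨by rw [w, Hom.one_def]⟩ (PullbackCone.isLimitAux' _ fun s => ?_)
  have h : s.fst ≫ v = 1 :=
    s.condition.trans ((congrArg (· ≫ η[H]) (toUnit_unique s.snd (toUnit s.pt))).trans Hom.one_def.symm)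
  let z := (exists_lift_of_shortExact u v w hex s.fst h).choose
  have hz : z ≫ u = s.fst := (exists_lift_of_shortExact u v w hex s.fst h).choose_spec
  exact ⟨z, hz, toUnit_unique _ _, fun {m} h1 _ => by rw [← cancel_mono u, hz]; exact h1⟩

/-- Points of the quotient lift locally for the fppf topology. -/
theorem locSurj_of_shortExact : LocSurj (QuotSh.J Scheme.fppfPrecoverage S) v :=
  locSurj_of_epi v hex.epi_g

/-- A local section trivialises the extension. -/
theorem isPullback_of_section {W : Over S} (y : W ⟶ H) (σ : W ⟶ G) (hσ : σ ≫ v = y) :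
    IsPullback ((fst F W ≫ u) * (snd F W ≫ σ)) (snd F W) v y := by
  haveI := mono_of_shortExact u v w hex
  refine IsPullback.of_isLimit' ⟨?_⟩ (PullbackCone.isLimitAux' _ fun s => ?_)
  · rw [MonObj.mul_comp, Category.assoc, w, MonObj.comp_one, _root_.one_mul, Category.assoc, hσ]
  · have h : (s.fst * (s.snd ≫ σ)⁻¹) ≫ v = 1 := by
      rw [MonObj.mul_comp, GrpObj.inv_comp, Category.assoc, hσ, s.condition, mul_inv_cancel]
    let z := (exists_lift_of_shortExact u v w hex _ h).choose
    have hz : z ≫ u = s.fst * (s.snd ≫ σ)⁻¹ := (exists_lift_of_shortExact u v w hex _ h).choose_spec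
    refine ⟨lift z s.snd, ?_, lift_snd _ _, fun {m} h1 h2 => ?_⟩
    · show lift z s.snd ≫ ((fst F W ≫ u) * (snd F W ≫ σ)) = _
      rw [MonObj.comp_mul, lift_fst_assoc, lift_snd_assoc, hz, inv_mul_cancel_right]
    · change m ≫ ((fst F W ≫ u) * (snd F W ≫ σ)) = s.fst at h1
      change m ≫ snd F W = s.snd at h2
      revert h1 h2
      suffices key : ∀ m : s.pt ⟶ F ⊗ W, m ≫ ((fst F W ≫ u) * (snd F W ≫ σ)) = s.fst → m ≫ snd F W = s.snd →
          m = lift z s.snd from key m
      intro m h1 h2
      rw [MonObj.comp_mul, ← Category.assoc, ← Category.assoc, h2] at h1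
      refine CartesianMonoidalCategory.hom_ext _ _ ?_ (h2.trans (lift_snd _ _).symm)
      rw [lift_fst, ← cancel_mono u, hz, eq_mul_inv_iff_mul_eq, h1]

end Gen

/-- A compact separated scheme: an fppf covering sieve contains a single quasi-compact fppf surjection. -/
theorem exists_single_cover {S : Scheme.{u}} {H : Over S} [CompactSpace H.left] [H.left.IsSeparated] {R : Sieve H}
    (hR : R ∈ QuotSh.J Scheme.fppfPrecoverage S H) :
    ∃ (m : ℕ) (W : ULift.{u} (Fin m) → Over S) (y : ∀ i, W i ⟶ H), (∀ i, R (y i)) ∧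
      Surjective (Sigma.desc fun i => (y i).left) ∧ Flat (Sigma.desc fun i => (y i).left) ∧
      QuasiCompact (Sigma.desc fun i => (y i).left) := by
  obtain ⟨J, V, v, hf, hp, hs, hm⟩ := AlgStLib.exists_fppf_of_mem_J hR
  choose i z hz using hs
  choose O hO hzO using fun x => (exists_isAffineOpen_mem_and_subset (x := z x) (U := (⊤ : (V (i x)).left.Opens)) trivial)
  have hopen : ∀ x, IsOpen ((v (i x)).left '' (O x : Set (V (i x)).left)) := fun x => by
    haveI := hf (i x); haveI := hp (i x)
    exact (v (i x)).left.isOpenMap _ (O x).2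
  obtain ⟨t, ht⟩ := isCompact_univ.elim_finite_subcover _ hopen (fun x _ =>
    Set.mem_iUnion.2 ⟨x, z x, (hzO x).1, hz x⟩)
  let x : ULift.{u} (Fin t.card) → H.left := fun n => ((t.equivFin.symm n.down) : H.left)
  let W : ULift.{u} (Fin t.card) → Over S := fun n => Over.mk ((O (x n)).ι ≫ (V (i (x n))).hom)
  let y : ∀ n, W n ⟶ H := fun n =>
    (Over.homMk (O (x n)).ι rfl : W n ⟶ V (i (x n))) ≫ v (i (x n))
  refine ⟨t.card, W, y, fun n => R.downward_closed (hm _) _, ⟨fun a => ?_⟩, ?_, ?_⟩
  · obtain ⟨b, hb, c, hc, rfl⟩ := Set.mem_iUnion₂.1 (ht (Set.mem_univ a))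
    obtain ⟨n, rfl⟩ : ∃ n, x n = b := ⟨⟨t.equivFin ⟨b, hb⟩⟩, by simp [x]⟩
    refine ⟨Sigma.ι (fun n => (W n).left) n ⟨c, hc⟩, ?_⟩
    exact congrArg (fun m : (W n).left ⟶ H.left => m ⟨c, hc⟩) (Sigma.ι_desc (fun n => (y n).left) n)
  · refine IsZariskiLocalAtSource.sigmaDesc (P := @Flat) fun n => ?_
    haveI := hf (i (x n))
    exact inferInstanceAs (Flat ((O (x n)).ι ≫ (v (i (x n))).left))
  · haveI : ∀ n, IsAffine (W n).left := fun n => hO (x n)
    haveI : CompactSpace ↥(∐ fun n => (W n).left : Scheme.{u}) := inferInstance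
    haveI : QuasiCompact ((Sigma.desc fun i => (y i).left) ≫ H.left.toSpecΓ) :=
      quasiCompact_of_compactSpace _
    exact QuasiCompact.of_comp _ H.left.toSpecΓ

section Field

variable {k : Type u} [Field k] {F G H : Over (Spec (CommRingCat.of k))} [GrpObj F] [IsCommMonObj F] [GrpObj G]
  [IsCommMonObj G] [GrpObj H] [IsCommMonObj H] (u : F ⟶ G) (v : G ⟶ H) [IsMonHom u] [IsMonHom v] (w : u ≫ v = 1)
  (hex : (CGrpSh.seq Scheme.fppfPrecoverage u v w).ShortExact)

include w hex in
/-- An extension of a finite type group by a smooth finite type group is a smooth surjection. -/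
theorem props_of_shortExact [Smooth F.hom] [QuasiCompact F.hom] [LocallyOfFiniteType H.hom] [QuasiCompact H.hom] :
    Smooth v.left ∧ QuasiCompact v.left ∧ Surjective v.left := by
  haveI : CompactSpace H.left := QuasiCompact.compactSpace_of_compactSpace H.hom
  haveI : IsSeparated H.hom := GrpSchLib.AntiAffine.isSeparated_grp H
  haveI : IsSeparated (terminal.from H.left) := by
    rw [Subsingleton.elim (terminal.from H.left) (H.hom ≫ terminal.from _)]
    infer_instance
  haveI : H.left.IsSeparated := ⟨inferInstance⟩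
  obtain ⟨R, hR, hlift⟩ := locSurj_of_shortExact u v w hex H (𝟙 H)
  obtain ⟨m, W, y, hy, hys, hyf, hyq⟩ := exists_single_cover hR
  choose σ hσ using fun i => hlift (y i) (hy i)
  simp only [Category.comp_id] at hσ
  let U : Over (Spec (CommRingCat.of k)) := Over.mk (Sigma.desc fun i => (W i).hom)
  let y' : U ⟶ H := Over.homMk (Sigma.desc fun i => (y i).left) (Sigma.hom_ext _ _ fun i => by
    show Sigma.ι _ i ≫ _ ≫ H.hom = Sigma.ι _ i ≫ Sigma.desc _
    rw [Sigma.ι_desc_assoc, Sigma.ι_desc, Over.w (y i)])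
  let σ' : U ⟶ G := Over.homMk (Sigma.desc fun i => (σ i).left) (Sigma.hom_ext _ _ fun i => by
    show Sigma.ι _ i ≫ _ ≫ G.hom = Sigma.ι _ i ≫ Sigma.desc _
    rw [Sigma.ι_desc_assoc, Sigma.ι_desc, Over.w (σ i)])
  have hσ' : σ' ≫ v = y' := Over.OverMorphism.ext (Sigma.hom_ext _ _ fun i => by
    show Sigma.ι _ i ≫ Sigma.desc _ ≫ v.left = Sigma.ι _ i ≫ Sigma.desc _
    rw [Sigma.ι_desc_assoc, Sigma.ι_desc, ← Over.comp_left, hσ i])
  have hsq := (isPullback_of_section u v w hex y' σ' hσ').map (Over.forget (Spec (CommRingCat.of k)))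
  have hcov : (@Surjective ⊓ @Flat ⊓ @QuasiCompact : MorphismProperty Scheme.{u}) y'.left := ⟨⟨hys, hyf⟩, hyq⟩
  haveI := EtFound.fpqc_quasiCompact.{u}
  haveI hsnd : Smooth (snd F U).left := inferInstanceAs (Smooth (pullback.snd F.hom U.hom))
  haveI : QuasiCompact (snd F U).left := inferInstanceAs (QuasiCompact (pullback.snd F.hom U.hom))
  haveI : Surjective (snd F U).left := by
    haveI : Surjective F.hom := ⟨fun x => ⟨η[F].left x, Subsingleton.elim (α := PrimeSpectrum k) _ _⟩⟩
    exact inferInstanceAs (Surjective (pullback.snd F.hom U.hom))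
  refine ⟨MorphismProperty.of_isPullback_of_descendsAlong (P := @Smooth) hsq.flip hcov hsnd,
    MorphismProperty.of_isPullback_of_descendsAlong (P := @QuasiCompact) hsq.flip hcov (inferInstanceAs (QuasiCompact (snd F U).left)), ?_⟩
  haveI := hys
  haveI : Surjective (((fst F U ≫ u) * (snd F U ≫ σ')).left ≫ v.left) := by
    have e : ((fst F U ≫ u) * (snd F U ≫ σ')).left ≫ v.left = (snd F U).left ≫ y'.left := hsq.w
    rw [e]
    haveI : Surjective y'.left := hys
    infer_instance
  exact Surjective.of_comp ((fst F U ≫ u) * (snd F U ≫ σ')).left _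

end Field

end Groth.Agent.OneMotLib
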