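import Groth.Agent.Deform.TorusAlg
import Groth.Agent.GrpSchLib.AffineHopf
import Mathlib.FieldTheory.IsAlgClosed.Basic
import Mathlib.RingTheory.RootsOfUnity.AlgebraicallyClosed

/-!
# Homomorphisms of tori are determined by their values at torsion points
-/

noncomputable section

set_option autoImplicit false
set_option linter.style.haveILetI false
set_option linter.unusedSectionVars false
set_option backward.isDefEq.respectTransparency false
set_option backward.isDefEq.respectTransparency.types false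

universe u

open CategoryTheory CategoryTheory.Limits MonoidalCategory CartesianMonoidalCategory MonObj AlgebraicGeometry WithConv

attribute [local instance] CategoryTheory.Hom.monoid CategoryTheory.Hom.group

namespace Groth.Agent.OneMotLib

open GrpSchLib.AffineHopf

variable {k : Type u} [Field k]

/-- Values of powers of a character point. -/
theorem conv_pow_single {M : Type} [CommGroup M] (c : MonoidAlgebra k M →ₐ[k] k) (n : ℕ) (m : M) :
    (toConv c ^ n).ofConv (MonoidAlgebra.single m 1) = c (MonoidAlgebra.single m 1) ^ n := by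
  induction n with
  | zero =>
    rw [_root_.pow_zero, _root_.pow_zero]
    simp [AlgHom.convOne_def]
  | succ n ih =>
    rw [pow_succ, pow_succ, ← ih]
    simp [AlgHom.convMul_apply]

theorem algebraMap_hom (k : Type u) [Field k] : (sp k k).hom = 𝟙 (Spec (CommRingCat.of k)) := by
  show Spec.map (CommRingCat.ofHom (algebraMap k k)) = 𝟙 _
  rw [Algebra.algebraMap_self, CommRingCat.ofHom_id, Spec.map_id]

theorem id_comp_hom (k : Type u) [Field k] :
    (Iso.refl (Spec (CommRingCat.of k))).hom ≫ (sp k k).hom = 𝟙 (Spec (CommRingCat.of k)) := by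
  rw [algebraMap_hom, Iso.refl_hom, Category.id_comp]

/-- The rational point as a spectrum. -/
def ptIso' (k : Type u) [Field k] : Over.mk (𝟙 (Spec (CommRingCat.of k))) ≅ sp k k :=
  Over.isoMk (Iso.refl (Spec (CommRingCat.of k))) (id_comp_hom k)

/-- The rational point as a spectrum. -/
def ptIso (k : Type u) [Field k] : 𝟙_ (Over (Spec (CommRingCat.of k))) ≅ sp k k :=
  ptIso' k

variable [IsAlgClosed k] [CharZero k]

/-- A character of `ℤ^r` of finite order detecting a given element. -/
theorem exists_torsion_character {r : ℕ} (m : Multiplicative (Fin r → ℤ)) (hm : m ≠ 1) :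
    ∃ (n : ℕ) (χ : Multiplicative (Fin r → ℤ) →* k), 0 < n ∧ (∀ a, χ a ^ n = 1) ∧ χ m ≠ 1 := by
  obtain ⟨i, hi⟩ : ∃ i, m.toAdd i ≠ 0 := by
    by_contra h
    push Not at h
    exact hm (Multiplicative.toAdd.injective (funext h))
  let N : ℕ := (m.toAdd i).natAbs + 1
  haveI : NeZero (N : k) := ⟨Nat.cast_ne_zero.2 (Nat.succ_ne_zero _)⟩
  obtain ⟨ζ, hζ⟩ := HasEnoughRootsOfUnity.exists_primitiveRoot k N
  have hu : IsUnit ζ := hζ.isUnit (Nat.succ_ne_zero _)
  let χ : Multiplicative (Fin r → ℤ) →* k :=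
    { toFun := fun a => ((hu.unit ^ a.toAdd i : kˣ) : k)
      map_one' := by simp
      map_mul' := fun a b => by simp [zpow_add] }
  refine ⟨N, χ, Nat.succ_pos _, fun a => ?_, fun h => ?_⟩
  · show ((hu.unit ^ a.toAdd i : kˣ) : k) ^ N = 1
    rw [← Units.val_pow_eq_pow_val, ← zpow_natCast, ← zpow_mul, mul_comm, zpow_mul, zpow_natCast,
      show hu.unit ^ N = 1 from Units.ext hζ.pow_eq_one, one_zpow, Units.val_one]
  · have h1 : hu.unit ^ m.toAdd i = 1 := Units.ext h
    have hp : IsPrimitiveRoot hu.unit N := IsPrimitiveRoot.coe_units_iff.1 hζ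
    have h2 := Int.natAbs_dvd_natAbs.2 ((hp.zpow_eq_one_iff_dvd _).1 h1)
    rw [Int.natAbs_natCast] at h2
    have h3 := Nat.le_of_dvd (Int.natAbs_pos.2 hi) h2
    omega

/-- A homomorphism of tori over an algebraically closed field of characteristic zero vanishing at all rational points
of finite order is trivial. -/
theorem torus_hom_eq_one {T T' : Over (Spec (CommRingCat.of k))} [GrpObj T] [GrpObj T'] (hT : Red.IsTorus T)
    (hT' : Red.IsTorus T') (f : T ⟶ T') [IsMonHom f]
    (h : ∀ (n : ℕ) (x : 𝟙_ (Over (Spec (CommRingCat.of k))) ⟶ T), 0 < n → x ^ n = 1 → x ≫ f = 1) : f = 1 := by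
  obtain ⟨r, ⟨e⟩⟩ := Deform.exists_split T hT
  obtain ⟨r', ⟨e'⟩⟩ := Deform.exists_split T' hT'
  obtain ⟨d⟩ := nonempty_DS_iso k (Fin r → ℤ)
  obtain ⟨d'⟩ := nonempty_DS_iso k (Fin r' → ℤ)
  let a := (d ≪≫ e.symm).hom.hom.hom
  let b := (e' ≪≫ d'.symm).hom.hom.hom
  haveI : IsMonHom a := (d ≪≫ e.symm).hom.hom.isMonHom_hom
  haveI : IsMonHom b := (e' ≪≫ d'.symm).hom.hom.isMonHom_hom
  haveI : IsIso a := ((Grp.forget _).mapIso (d ≪≫ e.symm)).isIso_hom
  haveI : IsIso b := ((Grp.forget _).mapIso (e' ≪≫ d'.symm)).isIso_hom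
  obtain ⟨φ, hφ⟩ := exists_bialgHom (a ≫ f ≫ b)
  let θ := MonoidAlgebra.mapDomainOfBialgHom φ
  have hθ : ∀ m, θ m = 1 := fun m => by
    by_contra hm
    obtain ⟨n, χ, hn, hχ, hne⟩ := exists_torsion_character (k := k) (θ m) hm
    let c : MonoidAlgebra k (Multiplicative (Fin r → ℤ)) →ₐ[k] k := MonoidAlgebra.lift k k _ χ
    let e0 := (ptIso k).hom
    have hc : toConv c ^ n = 1 := by
      refine WithConv.ofConv_injective (MonoidAlgebra.algHom_ext (fun g => ?_) (Subsingleton.elim _ _))
      rw [conv_pow_single]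
      simp [c, hχ g, AlgHom.convOne_def]
    have hx : (e0 ≫ spMap c ≫ a) ^ n = 1 := by
      rw [← Category.assoc, ← MonObj.pow_comp, ← MonObj.comp_pow, spMap_eq_mapMulEquiv, ← map_pow, hc, map_one,
        MonObj.comp_one, MonObj.one_comp]
    have h1 := h n _ hn hx
    have h2 : e0 ≫ spMap (c.comp (φ : MonoidAlgebra k (Multiplicative (Fin r' → ℤ)) →ₐ[k]
        MonoidAlgebra k (Multiplicative (Fin r → ℤ)))) = e0 ≫ spMap ((toConv c ^ 0).ofConv.comp (φ :
        MonoidAlgebra k (Multiplicative (Fin r' → ℤ)) →ₐ[k] MonoidAlgebra k (Multiplicative (Fin r → ℤ)))) := by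
      rw [← spMap_comp, ← spMap_comp, ← hφ, spMap_eq_mapMulEquiv (toConv c ^ 0).ofConv, WithConv.toConv_ofConv,
        _root_.pow_zero, map_one, MonObj.one_comp, MonObj.comp_one]
      simp only [Category.assoc] at h1
      rw [reassoc_of% h1, MonObj.one_comp]
    have h3 := congrArg (fun F : _ →ₐ[k] k => F (MonoidAlgebra.single m 1)) (spMap_injective ((cancel_epi e0).1 h2))
    refine hne ?_
    simp only [AlgHom.comp_apply, BialgHom.coe_toAlgHom, ← MonoidAlgebra.single_mapDomainOfBialgHom φ,
      conv_pow_single, _root_.pow_zero] at h3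
    simpa [c, θ, -MonoidAlgebra.single_mapDomainOfBialgHom, AlgHom.convOne_apply] using h3
  have hk : a ≫ f ≫ b = 1 := by
    rw [hφ, ← map_one Spec.mapMulEquiv, spMap_eq_mapMulEquiv]
    congr 1
    refine WithConv.ofConv_injective (MonoidAlgebra.algHom_ext (fun g => ?_) (Subsingleton.elim _ _))
    show φ (MonoidAlgebra.single g 1) = _
    rw [← MonoidAlgebra.single_mapDomainOfBialgHom φ, hθ g, AlgHom.convOne_apply]
    simp [MonoidAlgebra.one_def]
  rw [← cancel_epi a, ← cancel_mono b, MonObj.comp_one, MonObj.one_comp, Category.assoc, hk]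

end Groth.Agent.OneMotLib
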