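import Groth.Agent.OneMotLib.Seq
import Groth.Agent.OneMotLib.TorusHom
import Groth.Agent.Deform.Chev.SemiAbExp
import Groth.Agent.AVTorsLib.Factor
import Groth.Agent.Deform.GenSub.CommField

/-!
# Semi-abelian extensions over an algebraically closed field
-/

noncomputable section

set_option autoImplicit false
set_option linter.style.haveILetI false
set_option linter.unusedSectionVars false
set_option backward.isDefEq.respectTransparency false
set_option backward.isDefEq.respectTransparency.types false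

universe u

open CategoryTheory CategoryTheory.Limits MonoidalCategory CartesianMonoidalCategory MonObj GrpObj AlgebraicGeometry Opposite

attribute [local instance] CategoryTheory.Hom.monoid CategoryTheory.Hom.group

namespace Groth.Agent.OneMotLib

open Deform.Chev

variable {k : Type u} [Field k]

/-- The middle term of an extension of connected smooth groups is smooth and connected. -/
theorem smooth_connected_of_shortExact [IsAlgClosed k] {F G H : Over (Spec (CommRingCat.of k))} [GrpObj F]
    [IsCommMonObj F] [GrpObj G] [IsCommMonObj G] [GrpObj H] [IsCommMonObj H] (u : F ⟶ G) (v : G ⟶ H) [IsMonHom u]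
    [IsMonHom v] (w : u ≫ v = 1) (hex : (CGrpSh.seq Scheme.fppfPrecoverage u v w).ShortExact)
    [Smooth F.hom] [ConnectedSpace F.left] [Smooth H.hom] [ConnectedSpace H.left] :
    Smooth G.hom ∧ ConnectedSpace G.left := by
  haveI := Deform.GenSub.quasiCompact_of_connected F
  haveI := Deform.GenSub.quasiCompact_of_connected H
  obtain ⟨hvs, hvq, hvsurj⟩ := props_of_shortExact u v w hex
  haveI := hvs; haveI := hvq; haveI := hvsurj
  haveI hGs : Smooth G.hom := by rw [← Over.w v]; infer_instance
  refine ⟨hGs, ?_⟩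
  haveI : Nonempty G.left := ⟨η[G].left (IsLocalRing.closedPoint k)⟩
  haveI : JacobsonSpace H.left := LocallyOfFiniteType.jacobsonSpace H.hom
  suffices hp : PreconnectedSpace G.left from { toPreconnectedSpace := hp, toNonempty := inferInstance }
  refine preconnectedSpace_iff_clopen.2 fun U hU => ?_
  by_contra hne
  push Not at hne
  obtain ⟨hne, hne'⟩ := hne
  have ho := fun (s : Set G.left) (hs : IsOpen s) => v.left.isOpenMap s hs
  have hcov : v.left '' U ∪ v.left '' Uᶜ = Set.univ := by
    rw [← Set.image_union, Set.union_compl_self, Set.image_univ, v.left.surjective.range_eq]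
  obtain ⟨z, hz⟩ := (PreconnectedSpace.isPreconnected_univ (α := H.left)) _ _ (ho U hU.isOpen)
    (ho Uᶜ hU.compl.isOpen) hcov.ge
    (by rw [Set.univ_inter]; exact hne.image _)
    (by rw [Set.univ_inter]; exact (Set.nonempty_compl.2 hne').image _)
  obtain ⟨t, ⟨htU, htU'⟩, htc⟩ := nonempty_inter_closedPoints ⟨z, hz.2⟩
    ((ho U hU.isOpen).inter (ho Uᶜ hU.compl.isOpen)).isLocallyClosed
  let y : 𝟙_ (Over (Spec (CommRingCat.of k))) ⟶ H := Over.homMk _ ((pointEquivClosedPoint H.hom).symm ⟨t, htc⟩).2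
  have hy : y.left (IsLocalRing.closedPoint k) = t :=
    congrArg Subtype.val ((pointEquivClosedPoint H.hom).apply_symm_apply ⟨t, htc⟩)
  obtain ⟨a, haU, hat⟩ := htU
  obtain ⟨b, hbU, hbt⟩ := htU'
  haveI : LocallyOfFiniteType G.hom := inferInstance
  haveI : JacobsonSpace G.left := LocallyOfFiniteType.jacobsonSpace G.hom
  obtain ⟨s, hst, hsc⟩ := nonempty_inter_closedPoints
    (Z := v.left ⁻¹' {t}) ⟨a, hat⟩ ((IsClosed.preimage v.left.continuous htc).isLocallyClosed)
  let σ : 𝟙_ (Over (Spec (CommRingCat.of k))) ⟶ G := Over.homMk _ ((pointEquivClosedPoint G.hom).symm ⟨s, hsc⟩).2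
  have hσ' : σ.left (IsLocalRing.closedPoint k) = s :=
    congrArg Subtype.val ((pointEquivClosedPoint G.hom).apply_symm_apply ⟨s, hsc⟩)
  have hσ : σ ≫ v = y := Over.OverMorphism.ext (ext_of_apply_closedPoint_eq H.hom
    (Over.w (σ ≫ v)) (Over.w y) ((congrArg (fun p => v.left p) hσ').trans (Set.mem_singleton_iff.1 hst |>.trans hy.symm)))
  have hsq := (isPullback_of_section u v w hex y σ hσ).map (Over.forget (Spec (CommRingCat.of k)))
  let q := ((fst F (𝟙_ (Over (Spec (CommRingCat.of k)))) ≫ u) * (snd F _ ≫ σ)).left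
  have hrange : ∀ g : G.left, v.left g = t → g ∈ Set.range q := fun g hg => by
    obtain ⟨p, hp1, -⟩ := Scheme.Pullback.exists_preimage_pullback (f := v.left) (g := y.left) g
      (IsLocalRing.closedPoint k) (hg.trans hy.symm)
    refine ⟨hsq.isoPullback.inv p, ?_⟩
    exact (congrArg (fun m : pullback v.left y.left ⟶ G.left => m p) hsq.isoPullback_inv_fst).trans hp1
  haveI : ConnectedSpace ↥((Over.forget (Spec (CommRingCat.of k))).obj F) := ‹ConnectedSpace F.left›
  haveI : ConnectedSpace (F ⊗ 𝟙_ (Over (Spec (CommRingCat.of k)))).left :=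
    (Scheme.homeoOfIso ((Over.forget _).mapIso (ρ_ F))).symm.surjective.connectedSpace
      (Scheme.homeoOfIso ((Over.forget _).mapIso (ρ_ F))).symm.continuous
  obtain ⟨pa, hpa⟩ := hrange a hat
  obtain ⟨pb, hpb⟩ := hrange b hbt
  have hu := (hU.preimage q.continuous).eq_univ ⟨pa, by rw [Set.mem_preimage, hpa]; exact haU⟩
  exact hbU (by rw [← hpb]; exact (Set.ext_iff.1 hu pb).2 trivial)

variable [IsAlgClosed k]

/-- Rational points lift along a surjection. -/
theorem exists_point_lift {G H : Over (Spec (CommRingCat.of k))} [LocallyOfFiniteType G.hom]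
    [LocallyOfFiniteType H.hom] (v : G ⟶ H) [Surjective v.left] (y : 𝟙_ (Over (Spec (CommRingCat.of k))) ⟶ H) :
    ∃ x : 𝟙_ (Over (Spec (CommRingCat.of k))) ⟶ G, x ≫ v = y := by
  haveI : JacobsonSpace G.left := LocallyOfFiniteType.jacobsonSpace G.hom
  have htc : IsClosed ({y.left (IsLocalRing.closedPoint k)} : Set H.left) :=
    ((pointEquivClosedPoint H.hom) ⟨y.left, Over.w y⟩).2
  obtain ⟨a, ha⟩ := v.left.surjective (y.left (IsLocalRing.closedPoint k))
  obtain ⟨s, hst, hsc⟩ := nonempty_inter_closedPoints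
    (Z := v.left ⁻¹' {y.left (IsLocalRing.closedPoint k)}) ⟨a, ha⟩
    ((IsClosed.preimage v.left.continuous htc).isLocallyClosed)
  let σ : 𝟙_ (Over (Spec (CommRingCat.of k))) ⟶ G := Over.homMk _ ((pointEquivClosedPoint G.hom).symm ⟨s, hsc⟩).2
  have hσ' : σ.left (IsLocalRing.closedPoint k) = s :=
    congrArg Subtype.val ((pointEquivClosedPoint G.hom).apply_symm_apply ⟨s, hsc⟩)
  exact ⟨σ, Over.OverMorphism.ext (ext_of_apply_closedPoint_eq H.hom (Over.w (σ ≫ v)) (Over.w y)
    ((congrArg (fun p => v.left p) hσ').trans (Set.mem_singleton_iff.1 hst)))⟩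

/-- An abelian variety is semi-abelian. -/
theorem isSemiAb_av (A : Over (Spec (CommRingCat.of k))) [GrpObj A] [Smooth A.hom] [IsProper A.hom]
    [ConnectedSpace A.left] : SemiAbExt.IsSemiAb A := by
  haveI := Deform.GenSub.quasiCompact_of_connected A
  haveI : IsMonHom (toUnit A) := WittEndoLib.isMonHom_of_mul _ fun _ _ _ => toUnit_unique _ _
  haveI : Surjective (toUnit A).left :=
    inferInstanceAs (Surjective A.hom)
  haveI : LocallyOfFiniteType (𝟙_ (Over (Spec (CommRingCat.of k)))).hom :=
    inferInstanceAs (LocallyOfFiniteType (𝟙 (Spec (CommRingCat.of k))))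
  haveI : QuasiCompact (𝟙_ (Over (Spec (CommRingCat.of k)))).hom :=
    inferInstanceAs (QuasiCompact (𝟙 (Spec (CommRingCat.of k))))
  refine SemiAbExt.of_proper_kernel (toUnit A) (𝟙 A) ?_ SemiAbExt.isSemiAb_unit
  haveI : IsIso η[𝟙_ (Over (Spec (CommRingCat.of k)))] := ⟨toUnit _, toUnit_unique _ _, toUnit_unique _ _⟩
  exact IsPullback.of_horiz_isIso ⟨toUnit_unique _ _⟩

variable {T G A : Over (Spec (CommRingCat.of k))} [GrpObj T] [IsCommMonObj T] [GrpObj G] [IsCommMonObj G] [GrpObj A]
  [IsCommMonObj A] {incl : T ⟶ G} {proj : G ⟶ A} [IsMonHom incl] [IsMonHom proj]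

omit [IsAlgClosed k] in
theorem connected_of_isAbelianSch (hA : OneMot.IsAbelianSch A) : ConnectedSpace A.left := by
  haveI := hA.connectedFibres (IsLocalRing.closedPoint k)
  haveI : Surjective (A.hom.fiberι (IsLocalRing.closedPoint k)) := ⟨fun x => by
    have : x ∈ A.hom ⁻¹' {IsLocalRing.closedPoint k} := Subsingleton.elim (α := PrimeSpectrum k) _ _
    rwa [← Scheme.Hom.range_fiberι] at this⟩
  exact (A.hom.fiberι (IsLocalRing.closedPoint k)).surjective.connectedSpace
    (A.hom.fiberι (IsLocalRing.closedPoint k)).continuous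

/-- The properties of a semi-abelian variety given as an extension. -/
theorem semiAb_props (h : OneMot.IsSemiAbWith T G A incl proj) :
    Smooth G.hom ∧ QuasiCompact G.hom ∧ ConnectedSpace G.left ∧ Smooth proj.left ∧ QuasiCompact proj.left ∧
      Surjective proj.left ∧ AlgGrp.IsKernel incl proj ∧ IsClosedImmersion incl.left ∧ SemiAbExt.IsSemiAb G := by
  haveI := h.abelian.smooth
  haveI := h.abelian.proper
  haveI := connected_of_isAbelianSch h.abelian
  obtain ⟨hTa, hTl, hTs, hTc⟩ := Deform.TorusBasic.props h.torus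
  haveI := hTs; haveI := hTc
  haveI := Deform.GenSub.quasiCompact_of_connected T
  obtain ⟨hs, hc⟩ := smooth_connected_of_shortExact incl proj h.comp h.shortExact
  haveI := hs; haveI := hc
  obtain ⟨hvs, hvq, hvsurj⟩ := props_of_shortExact incl proj h.comp h.shortExact
  have hk := isKernel_of_shortExact incl proj h.comp h.shortExact
  have hcl : IsClosedImmersion incl.left := by
    haveI : IsClosedImmersion η[A].left := by
      haveI : IsClosedImmersion (η[A].left ≫ A.hom) := by rw [Over.w η[A]]; exact inferInstanceAs (IsClosedImmersion (𝟙 _))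
      exact IsClosedImmersion.of_comp η[A].left A.hom
    exact MorphismProperty.of_isPullback (P := @IsClosedImmersion)
      (hk.map (Over.forget (Spec (CommRingCat.of k)))).flip ‹_›
  haveI := hvsurj; haveI := hcl; haveI := hvs
  exact ⟨hs, Deform.GenSub.quasiCompact_of_connected G, hc, hvs, hvq, hvsurj, hk, hcl,
    T, inferInstance, incl, A, inferInstance, proj, inferInstance, hcl, h.torus, inferInstance, hvsurj, inferInstance,
    hk, inferInstance, inferInstance, inferInstance⟩

/-- Rational points of a semi-abelian variety are divisible. -/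
theorem exists_root (hS : SemiAbExt.IsSemiAb G) [LocallyOfFiniteType G.hom] [QuasiCompact G.hom] {n : ℕ} (hn : 0 < n)
    (x : 𝟙_ (Over (Spec (CommRingCat.of k))) ⟶ G) : ∃ y : 𝟙_ (Over (Spec (CommRingCat.of k))) ⟶ G, y ^ n = x := by
  obtain ⟨-, hs, -⟩ := SemiAbExt.pow_props hS hn
  obtain ⟨y, hy⟩ := exists_point_lift (𝟙 G ^ n : G ⟶ G) x
  exact ⟨y, by rwa [MonObj.comp_pow, Category.comp_id] at hy⟩

variable [CharZero k] {T' G' A' : Over (Spec (CommRingCat.of k))} [GrpObj T'] [IsCommMonObj T'] [GrpObj G']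
  [IsCommMonObj G'] [GrpObj A'] [IsCommMonObj A'] {incl' : T' ⟶ G'} {proj' : G' ⟶ A'} [IsMonHom incl']
  [IsMonHom proj']

/-- In characteristic zero a homomorphism of semi-abelian varieties vanishing at the rational torsion points is
trivial. -/
theorem hom_eq_one (h : OneMot.IsSemiAbWith T G A incl proj) (h' : OneMot.IsSemiAbWith T' G' A' incl' proj')
    (f : G ⟶ G') [IsMonHom f]
    (hf : ∀ (n : ℕ) (x : 𝟙_ (Over (Spec (CommRingCat.of k))) ⟶ G), 0 < n → x ^ n = 1 → x ≫ f = 1) : f = 1 := by
  haveI := h.abelian.smooth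
  haveI := h.abelian.proper
  haveI := h'.abelian.proper
  haveI := connected_of_isAbelianSch h.abelian
  obtain ⟨hTa, hTl, hTs, hTc⟩ := Deform.TorusBasic.props h.torus
  haveI := hTa; haveI := hTs; haveI := hTc; haveI := hTl
  haveI := Deform.GenSub.quasiCompact_of_connected T
  obtain ⟨hGs, hGq, -, hps, hpq, hpsurj, hk, -, -⟩ := semiAb_props h
  haveI := hGs; haveI := hGq; haveI := hps; haveI := hpsurj
  obtain ⟨hG's, hG'q, -, -, -, -, hk', -, -⟩ := semiAb_props h'
  haveI := hG's; haveI := hG'q
  -- the torus part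
  have hT1 : incl ≫ f = 1 := by
    obtain ⟨φ, hφ⟩ := exists_lift_of_shortExact incl' proj' h'.comp h'.shortExact (incl ≫ f) (by
      rw [Category.assoc]; exact Deform.AVFactor.eq_one_of_affine (incl ≫ f ≫ proj'))
    haveI := mono_of_shortExact incl' proj' h'.comp h'.shortExact
    haveI : IsMonHom φ := Deform.isMonHom_of_comp φ incl' hφ
    rw [← hφ, torus_hom_eq_one h.torus h'.torus φ (fun n x hn hx => by
      rw [← cancel_mono incl', Category.assoc, hφ, MonObj.one_comp, ← Category.assoc]
      exact hf n _ hn (by rw [← MonObj.pow_comp, hx, MonObj.one_comp])), MonObj.one_comp]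
  obtain ⟨ψ, hψ, hψf⟩ := SemiAbExt.exists_desc proj incl hk f hT1
  haveI := hψ
  -- the abelian part
  haveI : GeometricallyIntegral A.hom := Deform.AVFactor.geometricallyIntegral_smooth A
  haveI : IsSeparated G'.hom := GrpSchLib.AntiAffine.isSeparated_grp G'
  haveI : Fact (Nat.Prime 2) := ⟨Nat.prime_two⟩
  have hψ1 : ψ = 1 := AVTorsLib.hom_eq_one_of_torsion ψ 2 (Nat.cast_ne_zero.2 (by norm_num)) fun n a ha => by
    have ha' : a ^ (2 ^ n) = 1 := ha
    obtain ⟨g, hg⟩ := exists_point_lift proj a
    obtain ⟨t, ht⟩ := exists_lift_of_shortExact incl proj h.comp h.shortExact (g ^ (2 ^ n))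
      (by rw [MonObj.pow_comp, hg, ha'])
    obtain ⟨s, hs⟩ := exists_root (SemiAbExt.isSemiAb_torus h.torus) (Nat.pos_of_ne_zero (pow_ne_zero n two_ne_zero)) t
    have h1 : (g * (s ≫ incl)⁻¹) ≫ f = 1 := hf (2 ^ n) _ (Nat.pos_of_ne_zero (pow_ne_zero n two_ne_zero)) (by
      rw [_root_.mul_pow, _root_.inv_pow, ← MonObj.pow_comp, hs, ht, mul_inv_cancel])
    rw [MonObj.mul_comp, GrpObj.inv_comp, Category.assoc, hT1, MonObj.comp_one, inv_one, _root_.mul_one] at h1
    rw [← hg, Category.assoc, hψf, h1]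
  rw [← hψf, hψ1, MonObj.comp_one]

end Groth.Agent.OneMotLib
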