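import Groth.Agent.OneMotLib.Ext
import Groth.Agent.Deform.Extension
import Groth.Agent.Deform.TorusAlg
import Groth.Agent.GrpSchLib.HomFinite
import Groth.Agent.GrpSchLib.KernelGrp
import Groth.Agent.Deform.Borel.Tori
import Mathlib.AlgebraicGeometry.Morphisms.FlatDescent

/-!
# Extensions of tori by abelian varieties
-/

noncomputable section

set_option autoImplicit false
set_option linter.style.haveILetI false
set_option linter.unusedSectionVars false
set_option backward.isDefEq.respectTransparency false
set_option backward.isDefEq.respectTransparency.types false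
set_option synthInstance.maxHeartbeats 400000

universe u

open CategoryTheory CategoryTheory.Limits MonoidalCategory CartesianMonoidalCategory MonObj GrpObj AlgebraicGeometry

attribute [local instance] CategoryTheory.Hom.monoid CategoryTheory.Hom.group

namespace Groth.Agent.OneMotLib

open Deform.Chev

variable {k : Type u} [Field k] [IsAlgClosed k] {T A E : Over (Spec (CommRingCat.of k))}
  [GrpObj T] [IsCommMonObj T] [GrpObj A] [IsCommMonObj A] [Smooth A.hom] [IsProper A.hom]
  [GrpObj E] [IsCommMonObj E]

theorem maximalTorus_isogeny (hT : Red.IsTorus T) [ConnectedSpace A.left]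
    (u : A ⟶ E) (v : E ⟶ T) [IsMonHom u] [IsMonHom v] (w : u ≫ v = 1)
    (hex : (CGrpSh.seq Scheme.fppfPrecoverage u v w).ShortExact) :
    Smooth E.hom ∧ ConnectedSpace ↥E.left ∧
      ∀ (T₀ : Over (Spec (CommRingCat.of k))) [GrpObj T₀] (i : T₀ ⟶ E), Red.IsMaximalTorus i →
        IsFinite (i ≫ v).left ∧ Flat (i ≫ v).left ∧ Surjective (i ≫ v).left := by
  obtain ⟨hTa, hTl, hTs, hTc⟩ := Deform.TorusBasic.props hT
  haveI := hTa; haveI := hTl; haveI := hTs; haveI := hTc
  haveI := Deform.GenSub.quasiCompact_of_connected T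
  haveI := Deform.GenSub.quasiCompact_of_connected A
  obtain ⟨hEs, hEc⟩ := smooth_connected_of_shortExact u v w hex
  refine ⟨hEs, hEc, ?_⟩
  haveI := hEs; haveI := hEc
  haveI := Deform.GenSub.quasiCompact_of_connected E
  haveI := GrpSchLib.AntiAffine.isSeparated_grp E
  haveI := GrpSchLib.AntiAffine.isSeparated_grp T
  obtain ⟨hvs, hvq, hvsurj⟩ := props_of_shortExact u v w hex
  haveI := hvs; haveI := hvq; haveI := hvsurj
  have hk := isKernel_of_shortExact u v w hex
  haveI := mono_of_shortExact u v w hex
  haveI : IsClosedImmersion u.left := Deform.Borel.isClosedImmersion_of_mono u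
  have hsE := SemiAbExt.extension_algClosed u v hk (isSemiAb_av A) (SemiAbExt.isSemiAb_torus hT)
  obtain ⟨TE, iTE, t, B, iB, α, ht, htc, hTE, hα, hαs, hαf, hkα, hB, hBs, hBc⟩ := hsE
  letI := iTE; letI := iB
  haveI := ht; haveI := htc; haveI := hα; haveI := hαs; haveI := hαf; haveI := hB; haveI := hBs; haveI := hBc
  haveI : Mono t := (Over.forget _).mono_of_mono_map (inferInstanceAs (Mono t.left))
  obtain ⟨hEa, hEl, hEs', hEc'⟩ := Deform.TorusBasic.props hTE
  haveI := hEa; haveI := hEl; haveI := hEs'; haveI := hEc'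
  haveI := Deform.GenSub.quasiCompact_of_connected TE
  haveI := Deform.Chev.quasiCompact_of_grp (t ≫ v)
  -- the torus part surjects
  have hsurj : Surjective (t ≫ v).left := by
    obtain ⟨J, iJ, r, c, hr, hc, hrc, hcc, hrf, hrs, hJl, hJq⟩ := GrpSchLib.ImageFactor.exists_image (t ≫ v)
    letI := iJ
    haveI := hr; haveI := hc; haveI := hcc; haveI := hrs; haveI := hJl; haveI := hJq
    obtain ⟨R, iR, ρ, hρ, hρf, hρs, hRl, hRq, hkρ⟩ := exists_quotient c (fun X x y => ⟨y, by
      rw [Deform.Extension.mul_comm_of x, mul_inv_cancel_right]⟩)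
    letI := iR
    haveI := hρ; haveI := hρf; haveI := hρs; haveI := hRl; haveI := hRq
    have hcρ : c ≫ ρ = 1 := by rw [hkρ.w]; exact Hom.one_def.symm
    obtain ⟨φ, hφ, hφα⟩ := SemiAbExt.exists_desc α t hkα (v ≫ ρ) (by
      rw [← Category.assoc, ← hrc, Category.assoc, hcρ, MonObj.comp_one])
    haveI := hφ
    haveI : Surjective φ.left := by
      haveI : Surjective (α.left ≫ φ.left) := by
        rw [← Over.comp_left, hφα, Over.comp_left]
        infer_instance
      exact Surjective.of_comp α.left φ.left
    haveI : IsProper R.hom := SemiAbExt.isProper_of_surjective φ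
    have hρ1 : ρ = 1 := Deform.AVFactor.eq_one_of_affine ρ
    obtain ⟨d, hd⟩ := exists_lift_kernel c ρ hkρ (𝟙 T) (by rw [Category.id_comp, hρ1])
    haveI : Surjective c.left :=
      ⟨fun x => ⟨d.left x, by rw [← Scheme.Hom.comp_apply, ← Over.comp_left, hd]; rfl⟩⟩
    rw [← hrc, Over.comp_left]
    infer_instance
  -- its kernel is affine and proper
  have hfin : IsFinite (t ≫ v).left := by
    refine GrpSchLib.HomFinite.isFinite_of_discrete_ker (t ≫ v) ?_
    obtain ⟨K, iK, κ, hκ, hκc, -, hkκ⟩ := GrpSchLib.exists_kernel (t ≫ v)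
    letI := iK
    haveI := hκ; haveI := hκc
    haveI : IsAffine K.left := isAffine_of_isAffineHom κ.left
    obtain ⟨g, hg⟩ := exists_lift_kernel u v hk (κ ≫ t) (by
      rw [Category.assoc, hkκ.w]; exact Hom.one_def.symm)
    haveI : IsClosedImmersion (g.left ≫ u.left) := by
      rw [← Over.comp_left, hg, Over.comp_left]
      infer_instance
    haveI : IsClosedImmersion g.left := IsClosedImmersion.of_comp g.left u.left
    haveI : IsProper K.hom := by rw [← Over.w g]; infer_instance
    haveI : IsAffineHom K.hom := isAffineHom_of_isAffine _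
    haveI : IsFinite K.hom := IsFinite.iff_isProper_and_isAffineHom.2 ⟨inferInstance, inferInstance⟩
    haveI hdisc : DiscreteTopology K.left :=
      isDiscrete_univ_iff.1 (by
        have h1 := K.hom.isDiscrete_preimage_singleton (IsLocalRing.closedPoint k)
        rwa [show K.hom ⁻¹' {IsLocalRing.closedPoint k} = Set.univ from
          Set.eq_univ_of_forall fun x => Subsingleton.elim (α := PrimeSpectrum k) _ _] at h1)
    have hsq := hkκ.map (Over.forget (Spec (CommRingCat.of k)))
    let H := Scheme.homeoOfIso hsq.isoPullback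
    haveI : DiscreteTopology ↥((Over.forget (Spec (CommRingCat.of k))).obj K) := hdisc
    exact DiscreteTopology.of_continuous_injective H.symm.continuous H.symm.injective
  haveI := hfin; haveI := hsurj
  haveI : IsReduced T.left := GrpSchLib.isReduced_of_smooth_field T.hom
  have hflat : Flat (t ≫ v).left := GrpSchLib.flat_of_surjective_hom _
  intro T₀ _ i hi
  obtain ⟨hmi, hmm, hT₀, hmax⟩ := hi
  haveI := hmi; haveI := hmm
  obtain ⟨hT₀a, hT₀l, hT₀s, hT₀c⟩ := Deform.TorusBasic.props hT₀
  haveI := hT₀a; haveI := hT₀l; haveI := hT₀s; haveI := hT₀c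
  obtain ⟨f, hf⟩ := exists_lift_kernel t α hkα i (Deform.AVFactor.eq_one_of_affine (i ≫ α))
  haveI : IsMonHom f := Deform.isMonHom_of_comp f t hf
  let s : Spec (CommRingCat.of k) := IsLocalRing.closedPoint k
  let g := Red.geomPt s
  haveI : Mono ((Over.pullback g).map t) := inferInstance
  haveI := hmax s (Red.bc g TE) ((Over.pullback g).map t) ((Over.pullback g).map f) (Deform.isTorus_bc _ hTE)
    (by rw [← Functor.map_comp, hf])
  haveI : IsIso f.left := by
    haveI : Flat g := Deform.AffineKernel.flat_over_field _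
    haveI : Surjective g := ⟨fun x => ⟨IsLocalRing.closedPoint _, Subsingleton.elim (α := PrimeSpectrum k) _ _⟩⟩
    have H := Deform.Extension.isPullback_map_left g f
    refine MorphismProperty.of_isPullback_of_descendsAlong (P := MorphismProperty.isomorphisms Scheme.{u})
      (Q := @Surjective ⊓ @Flat ⊓ @QuasiCompact) H ⟨⟨?_, ?_⟩, ?_⟩ ?_
    · exact MorphismProperty.pullback_fst (P := @Surjective) _ _ ‹_›
    · exact MorphismProperty.pullback_fst (P := @Flat) _ _ ‹_›
    · exact MorphismProperty.pullback_fst (P := @QuasiCompact) _ _ inferInstance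
    · show IsIso ((Over.forget _).map ((Over.pullback g).map f))
      infer_instance
  rw [← hf, Category.assoc, Over.comp_left]
  exact ⟨inferInstance, inferInstance, inferInstance⟩

end Groth.Agent.OneMotLib
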