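import Groth.Agent.OneMotLib.Real
import Groth.Agent.GrpSchLib.Cartier
import Groth.Agent.GrpSchLib.IdentityComp
import Groth.Agent.GrpSchLib.KernelGrp
import Groth.Agent.Deform.Chev.SemiAbSub
import Groth.Agent.Deform.Borel.Tori
import Mathlib.RingTheory.Nakayama

/-!
# A morphism of one-motives bijective on all torsion realisations is an isomorphism
-/

noncomputable section

set_option autoImplicit false
set_option linter.style.haveILetI false
set_option linter.unusedSectionVars false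
set_option backward.isDefEq.respectTransparency false
set_option backward.isDefEq.respectTransparency.types false
set_option synthInstance.maxHeartbeats 400000

universe u

open CategoryTheory CategoryTheory.Limits MonoidalCategory CartesianMonoidalCategory MonObj GrpObj AlgebraicGeometry

attribute [local instance] CategoryTheory.Hom.monoid CategoryTheory.Hom.group

namespace Groth.Agent.OneMotLib

open Deform.Chev

/-- A finitely generated abelian group divisible by all integers is trivial. -/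
theorem eq_top_of_divisible {r : ℕ} (N : AddSubgroup (Fin r → ℤ))
    (h : ∀ (m : ℕ), 0 < m → ∀ x, ∃ y, x - (m : ℤ) • y ∈ N) : N = ⊤ := by
  let P := AddSubgroup.toIntSubmodule N
  let Q := (Fin r → ℤ) ⧸ P
  have hle : ∀ a : ℤ, a ≠ 0 → (⊤ : Submodule ℤ Q) ≤ Ideal.span {a} • ⊤ := fun a ha q _ => by
    obtain ⟨x, rfl⟩ := Submodule.mkQ_surjective P q
    obtain ⟨y, hy⟩ := h a.natAbs (Int.natAbs_pos.2 ha) x
    have e : P.mkQ x = (a.natAbs : ℤ) • P.mkQ y := by
      rw [← map_smul, Submodule.mkQ_apply, Submodule.mkQ_apply, Submodule.Quotient.eq]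
      exact hy
    rw [e]
    refine Submodule.smul_mem_smul (Ideal.mem_span_singleton.2 ?_) Submodule.mem_top
    exact Int.dvd_natAbs.2 dvd_rfl
  obtain ⟨a, ha, hkill⟩ := Submodule.exists_sub_one_mem_and_smul_eq_zero_of_fg_of_le_smul
    (Ideal.span {(2 : ℤ)}) (⊤ : Submodule ℤ Q) Module.Finite.fg_top (hle 2 two_ne_zero)
  have ha0 : a ≠ 0 := fun h0 => by
    rw [h0, zero_sub, Ideal.mem_span_singleton] at ha
    omega
  have hQ : ∀ q : Q, q = 0 := fun q => by
    have hq := hle a ha0 (Submodule.mem_top : q ∈ ⊤)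
    rw [Submodule.ideal_span_singleton_smul] at hq
    obtain ⟨y, -, hy⟩ := hq
    rw [← hy]
    exact hkill y Submodule.mem_top
  refine AddSubgroup.eq_top_iff' N |>.2 fun x => ?_
  exact (Submodule.Quotient.mk_eq_zero P).1 (hQ (Submodule.Quotient.mk x))

variable {k : Type u} [Field k] [IsAlgClosed k] [CharZero k]

/-- A semi-abelian variety without rational torsion is trivial. -/
theorem isIso_eta_of_no_torsion {S : Over (Spec (CommRingCat.of k))} [GrpObj S] [IsCommMonObj S]
    [LocallyOfFiniteType S.hom] [QuasiCompact S.hom] (hS : SemiAbExt.IsSemiAb S)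
    (h : ∀ (n : ℕ) (a : 𝟙_ (Over (Spec (CommRingCat.of k))) ⟶ S), 0 < n → a ^ n = 1 → a = 1) : IsIso η[S] := by
  have hdiv := fun {n : ℕ} (hn : 0 < n) => exists_root hS hn
  obtain ⟨hSs, hSc⟩ := hS.smooth_connected
  obtain ⟨T, iT, t, A, iA, α, ht, htc, hT, hα, hαs, hαf, hkα, hA, hAs, hAc⟩ := hS
  letI := iT; letI := iA
  haveI := ht; haveI := htc; haveI := hα; haveI := hαs; haveI := hαf; haveI := hA; haveI := hAs; haveI := hAc
  haveI := hSs; haveI := hSc
  haveI : Mono t := (Over.forget _).mono_of_mono_map (inferInstanceAs (Mono t.left))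
  have hT1 : (𝟙 T : T ⟶ T) = 1 := torus_hom_eq_one hT hT (𝟙 T) fun n x hn hx => by
    rw [Category.comp_id, ← cancel_mono t, MonObj.one_comp]
    exact h n _ hn (by rw [← MonObj.pow_comp, hx, MonObj.one_comp])
  haveI : GeometricallyIntegral A.hom := Deform.AVFactor.geometricallyIntegral_smooth A
  haveI : IsCommMonObj A := isCommMonObj_of_isProper_of_geometricallyIntegral A
  haveI : IsSeparated A.hom := inferInstance
  haveI : Fact (Nat.Prime 2) := ⟨Nat.prime_two⟩
  have hker : ∀ x : 𝟙_ (Over (Spec (CommRingCat.of k))) ⟶ S, x ≫ α = 1 → x = 1 := fun x hx => by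
    obtain ⟨g, hg⟩ := exists_lift_kernel t α hkα x hx
    rw [← hg, ← Category.comp_id g, hT1, MonObj.comp_one, MonObj.one_comp]
  have hA1 : (𝟙 A : A ⟶ A) = 1 := AVTorsLib.hom_eq_one_of_torsion (𝟙 A) 2 (Nat.cast_ne_zero.2 (by norm_num))
    fun n a ha => by
      have ha' : a ^ (2 ^ n) = 1 := ha
      obtain ⟨g, hg⟩ := exists_point_lift α a
      have h1 : g ^ (2 ^ n) = 1 := hker _ (by rw [MonObj.pow_comp, hg, ha'])
      rw [Category.comp_id, ← hg, h _ g (Nat.pos_of_ne_zero (pow_ne_zero n two_ne_zero)) h1, MonObj.one_comp]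
  have hα1 : (𝟙 S : S ⟶ S) ≫ α = 1 := by
    rw [Category.id_comp, ← Category.comp_id α, hA1, MonObj.comp_one]
  obtain ⟨d, hd⟩ := exists_lift_kernel t α hkα (𝟙 S) hα1
  refine SemiAbExt.isIso_eta_of_eq_one ?_
  rw [← hd, ← Category.comp_id d, hT1, MonObj.comp_one, MonObj.one_comp]

/-- A subgroup of a semi-abelian variety without rational torsion is trivial. -/
theorem subgroup_isIso_eta {G K : Over (Spec (CommRingCat.of k))} [GrpObj G] [IsCommMonObj G] [GrpObj K]
    [LocallyOfFiniteType G.hom] [QuasiCompact G.hom] (hG : SemiAbExt.IsSemiAb G) (i : K ⟶ G) [IsMonHom i]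
    [IsClosedImmersion i.left]
    (h : ∀ (n : ℕ) (a : 𝟙_ (Over (Spec (CommRingCat.of k))) ⟶ K), 0 < n → a ^ n = 1 → a = 1) : IsIso η[K] := by
  haveI : LocallyOfFiniteType K.hom := by rw [← Over.w i]; infer_instance
  haveI : QuasiCompact K.hom := by rw [← Over.w i]; infer_instance
  haveI : Mono i := (Over.forget _).mono_of_mono_map (inferInstanceAs (Mono i.left))
  haveI : IsCommMonObj K := Deform.Extension.isCommMonObj_of fun X x y => by
    rw [← cancel_mono i, MonObj.mul_comp, MonObj.mul_comp, Deform.Extension.mul_comm_of (x ≫ i)]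
  haveI : Smooth K.hom := GrpSchLib.smooth_of_charZero K
  obtain ⟨K₀, iK₀, c, hc, hcc, hcf, hcr, hcg, -⟩ := GrpSchLib.exists_identityComponent (G := K)
  letI := iK₀
  haveI := hc; haveI := hcc; haveI := hcg
  haveI : LocallyOfFiniteType K₀.hom := by rw [← Over.w c]; infer_instance
  haveI : QuasiCompact K₀.hom := by rw [← Over.w c]; infer_instance
  haveI : Smooth K₀.hom := GrpSchLib.smooth_of_charZero K₀
  haveI : Mono c := (Over.forget _).mono_of_mono_map (inferInstanceAs (Mono c.left))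
  haveI : IsCommMonObj K₀ := Deform.Extension.isCommMonObj_of fun X x y => by
    rw [← cancel_mono c, MonObj.mul_comp, MonObj.mul_comp, Deform.Extension.mul_comm_of (x ≫ c)]
  haveI : ConnectedSpace K₀.left := by
    haveI : IrreducibleSpace K₀.left := GeometricallyIrreducible.irreducibleSpace_of_subsingleton K₀.hom
    infer_instance
  haveI : IsClosedImmersion (c ≫ i).left := inferInstanceAs (IsClosedImmersion (c.left ≫ i.left))
  haveI := isIso_eta_of_no_torsion (SemiAbExt.subgroup (c ≫ i) hG) fun n a hn ha => by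
    rw [← cancel_mono c, MonObj.one_comp]
    exact h n _ hn (by rw [← MonObj.pow_comp, ha, MonObj.one_comp])
  let e := IsLocalRing.closedPoint k
  have hone : connectedComponent (η[K].left e) = {η[K].left e} := by
    rw [← hcr]
    haveI : IsIso η[K₀].left := inferInstanceAs (IsIso ((Over.forget _).map η[K₀]))
    refine subset_antisymm ?_ (Set.singleton_subset_iff.2 (hcr ▸ mem_connectedComponent))
    rintro _ ⟨z, rfl⟩
    obtain ⟨p, rfl⟩ := η[K₀].left.surjective z
    rw [Subsingleton.elim (α := PrimeSpectrum k) p e, Set.mem_singleton_iff]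
    exact congrArg (fun m : Spec (CommRingCat.of k) ⟶ K.left => m e)
      (congrArg Over.Hom.left (IsMonHom.one_hom (f := c)))
  haveI : IsLocallyNoetherian K.left := LocallyOfFiniteType.isLocallyNoetherian K.hom
  haveI : CompactSpace K.left := QuasiCompact.compactSpace_of_compactSpace K.hom
  haveI : JacobsonSpace K.left := LocallyOfFiniteType.jacobsonSpace K.hom
  have hopen : ∀ x : 𝟙_ (Over (Spec (CommRingCat.of k))) ⟶ K, IsOpen ({x.left e} : Set K.left) := fun x => by
    let τ : (𝟙_ (Over (Spec (CommRingCat.of k))) ⟶ K) → (K ⟶ K) := fun a => 𝟙 K * (toUnit K ≫ a)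
    have hτ : ∀ a b, τ a ≫ τ b = τ (a * b) := fun a b => by
      show τ a ≫ (𝟙 K * (toUnit K ≫ b)) = _
      rw [MonObj.comp_mul, Category.comp_id, ← Category.assoc, toUnit_unique (τ a ≫ toUnit K) (toUnit K)]
      show 𝟙 K * (toUnit K ≫ a) * (toUnit K ≫ b) = 𝟙 K * (toUnit K ≫ (a * b))
      rw [MonObj.comp_mul, _root_.mul_assoc]
    have hτ1 : τ 1 = 𝟙 K := by
      show 𝟙 K * (toUnit K ≫ 1) = _
      rw [MonObj.comp_one, _root_.mul_one]
    let E : K ≅ K := ⟨τ x, τ x⁻¹, by rw [hτ, mul_inv_cancel, hτ1], by rw [hτ, inv_mul_cancel, hτ1]⟩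
    let H := Scheme.homeoOfIso ((Over.forget _).mapIso E)
    have hx : H (η[K].left e) = x.left e := by
      have h1 : η[K] ≫ τ x = x := by
        show η[K] ≫ (𝟙 K * (toUnit K ≫ x)) = x
        rw [MonObj.comp_mul, Category.comp_id, MonObj.one_eq_one, _root_.one_mul, ← Category.assoc,
          toUnit_unique (_ ≫ toUnit K) (𝟙 _), Category.id_comp]
      exact congrArg (fun m : 𝟙_ (Over (Spec (CommRingCat.of k))) ⟶ K => m.left e) h1
    have h2 : IsOpen ({η[K].left e} : Set K.left) := by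
      rw [← hone, ← hcr]
      haveI := hcf
      haveI : LocallyOfFinitePresentation c.left := inferInstance
      exact c.left.isOpenMap.isOpen_range
    have h3 := H.isOpenMap _ h2
    rwa [Set.image_singleton, hx] at h3
  have hpt : ∀ z : K.left, z ∈ closedPoints K.left → ∃ x : 𝟙_ (Over (Spec (CommRingCat.of k))) ⟶ K, x.left e = z :=
    fun z hz => ⟨Over.homMk _ ((pointEquivClosedPoint K.hom).symm ⟨z, hz⟩).2,
      congrArg Subtype.val ((pointEquivClosedPoint K.hom).apply_symm_apply ⟨z, hz⟩)⟩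
  have hclosed : ∀ z : K.left, ∃ x : 𝟙_ (Over (Spec (CommRingCat.of k))) ⟶ K, x.left e = z := fun z => by
    obtain ⟨w, hw, hwc⟩ := nonempty_inter_closedPoints (Z := closure ({z} : Set K.left))
      ⟨z, subset_closure rfl⟩ isClosed_closure.isLocallyClosed
    obtain ⟨x, rfl⟩ := hpt w hwc
    exact ⟨x, (Set.mem_singleton_iff.1 ((specializes_iff_mem_closure.2 hw).mem_open (hopen x) rfl)).symm⟩
  haveI : DiscreteTopology K.left := discreteTopology_iff_isOpen_singleton.2 fun z => by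
    obtain ⟨x, rfl⟩ := hclosed z; exact hopen x
  haveI : Finite K.left := finite_of_compact_of_discrete
  haveI : Finite (𝟙_ (Over (Spec (CommRingCat.of k))) ⟶ K) :=
    Finite.of_injective (fun x => x.left e) fun x y hxy =>
      Over.OverMorphism.ext (ext_of_apply_closedPoint_eq K.hom (Over.w x) (Over.w y) hxy)
  haveI : Subsingleton K.left := ⟨fun y z => by
    obtain ⟨a, rfl⟩ := hclosed y
    obtain ⟨b, rfl⟩ := hclosed z
    rw [h _ a Nat.card_pos pow_card_eq_one', h _ b Nat.card_pos pow_card_eq_one']⟩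
  exact SemiAbExt.isIso_eta_of_subsingleton K

variable {M N : OneMot.Motive (Spec (CommRingCat.of k))}

theorem isIso_of_bijective (f : OneMot.Motive.Hom M N)
    (h : ∀ m : ℕ, 1 ≤ m → Function.Bijective (OneMot.tzMap m (pnt1 k) f)) : f.IsIso := by
  obtain ⟨hGs, hGq, -, -, -, -, -, -, hS⟩ := semiAb_props M.semiAb
  obtain ⟨hG's, hG'q, -, -, -, -, -, -, hS'⟩ := semiAb_props N.semiAb
  haveI := hGs; haveI := hGq; haveI := hG's; haveI := hG'q
  haveI := GrpSchLib.AntiAffine.isSeparated_grp N.G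
  have inj : ∀ (m : ℕ), 1 ≤ m → ∀ (x : pnt1 k ⟶ M.L) (a : pnt1 k ⟶ M.G), (x ≫ M.u) * a ^ m = 1 →
      x ≫ f.fL = 1 → a ≫ f.fG = 1 → ∃ y : pnt1 k ⟶ M.L, y ^ m = x ∧ (y ≫ M.u)⁻¹ = a := by
    intro m hm x a hxa h1 h2
    obtain ⟨q, hq, hq1, hq2⟩ := tzMap_fst f (mkPair x a hxa)
    have h0 : OneMot.tzMap m (pnt1 k) f (QuotientAddGroup.mk (mkPair x a hxa)) = 0 := by
      rw [hq, QuotientAddGroup.eq_zero_iff]
      have : q = 0 := Subtype.ext (Prod.ext (congrArg Additive.ofMul (hq1.trans h1))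
        (congrArg Additive.ofMul (hq2.trans h2)))
      rw [this]
      exact zero_mem _
    have h3 := (h m hm).1 (h0.trans (map_zero _).symm)
    obtain ⟨y, hy1, hy2⟩ := mk_eq_mk (p := (0 : OneMot.tzPairs M m (pnt1 k))) (q := mkPair x a hxa)
      h3.symm
    exact ⟨y, (_root_.one_mul _).symm.trans hy1, (_root_.one_mul _).symm.trans hy2⟩
  -- the semi-abelian component is a monomorphism
  obtain ⟨K, iK, i, hi, hic, -, hk⟩ := GrpSchLib.exists_kernel f.fG
  letI := iK
  haveI := hi; haveI := hic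
  haveI : Mono i := (Over.forget _).mono_of_mono_map (inferInstanceAs (Mono i.left))
  haveI := subgroup_isIso_eta hS i fun n a hn ha => by
    obtain ⟨y, hy, hy'⟩ := inj n hn 1 (a ≫ i)
      (by rw [MonObj.one_comp, _root_.one_mul, ← MonObj.pow_comp, ha, MonObj.one_comp])
      (MonObj.one_comp _) (by rw [Category.assoc, show i ≫ f.fG = 1 from by rw [hk.w]; exact Hom.one_def.symm,
        MonObj.comp_one])
    rw [lattice_torsion_free M.lattice y hn hy, MonObj.one_comp, inv_one] at hy'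
    rw [← cancel_mono i, MonObj.one_comp, ← hy']
  haveI hmono : Mono f.fG := ⟨fun {X} a b hab => by
    obtain ⟨g, hg⟩ := exists_lift_kernel i f.fG hk (a * b⁻¹) (by
      rw [MonObj.mul_comp, GrpObj.inv_comp, hab, mul_inv_cancel])
    exact mul_inv_eq_one.1 (by rw [← hg, SemiAbExt.eq_one_of_isIso_eta' g, MonObj.one_comp])⟩
  -- the lattice component is bijective on rational points
  have hLinj : ∀ x : pnt1 k ⟶ M.L, x ≫ f.fL = 1 → x = 1 := fun x hx => by
    have hu : x ≫ M.u = 1 := by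
      rw [← cancel_mono f.fG, Category.assoc, f.comm, ← Category.assoc, hx, MonObj.one_comp, MonObj.one_comp]
    refine lattice_eq_one M.lattice x fun m hm => ?_
    obtain ⟨y, hy, -⟩ := inj m hm x 1 (by rw [hu, _root_.one_mul, _root_.one_pow]) hx (MonObj.one_comp _)
    exact ⟨y, hy⟩
  have surj : ∀ (m : ℕ), 1 ≤ m → ∀ (x' : pnt1 k ⟶ N.L) (a' : pnt1 k ⟶ N.G), (x' ≫ N.u) * a' ^ m = 1 →
      ∃ (x : pnt1 k ⟶ M.L) (a : pnt1 k ⟶ M.G) (y : pnt1 k ⟶ N.L),
        (x ≫ f.fL) * y ^ m = x' ∧ (a ≫ f.fG) * (y ≫ N.u)⁻¹ = a' := by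
    intro m hm x' a' hxa
    obtain ⟨p, hp⟩ := (h m hm).2 (QuotientAddGroup.mk (mkPair x' a' hxa))
    induction p using QuotientAddGroup.induction_on with | _ p => ?_
    obtain ⟨q, hq, hq1, hq2⟩ := tzMap_fst f p
    obtain ⟨y, hy1, hy2⟩ := mk_eq_mk (hq.symm.trans hp)
    rw [hq1] at hy1
    rw [hq2] at hy2
    exact ⟨_, _, y, hy1, hy2⟩
  have hLsurj : ∀ x' : pnt1 k ⟶ N.L, ∃ x : pnt1 k ⟶ M.L, x ≫ f.fL = x' := by
    obtain ⟨r, Φ, hΦ, -⟩ := exists_pts N.lattice
    let Nim : AddSubgroup (Fin r → ℤ) :=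
      { carrier := {v | ∃ x : pnt1 k ⟶ M.L, x ≫ f.fL = Φ (Multiplicative.ofAdd v)}
        add_mem' := by
          rintro v w ⟨x, hx⟩ ⟨y, hy⟩
          exact ⟨x * y, by rw [MonObj.mul_comp, hx, hy, ofAdd_add, map_mul]⟩
        zero_mem' := ⟨1, by rw [MonObj.one_comp, ofAdd_zero, map_one]⟩
        neg_mem' := by
          rintro v ⟨x, hx⟩
          exact ⟨x⁻¹, by rw [GrpObj.inv_comp, hx, ofAdd_neg, map_inv]⟩ }
    have hN : Nim = ⊤ := eq_top_of_divisible Nim fun m hm v => by
      obtain ⟨a', ha'⟩ := exists_pair (M := N) (m := m) hm (Φ (Multiplicative.ofAdd v))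
      obtain ⟨x, -, y, hy, -⟩ := surj m hm _ a' ha'
      obtain ⟨w, rfl⟩ := hΦ.2 y
      refine ⟨w.toAdd, x, ?_⟩
      show x ≫ f.fL = Φ (Multiplicative.ofAdd (v - (m : ℤ) • w.toAdd))
      rw [ofAdd_sub, map_div, eq_div_iff_mul_eq', ofAdd_zsmul, map_zpow, zpow_natCast]
      exact hy
    intro x'
    obtain ⟨v, rfl⟩ := hΦ.2 x'
    have : v.toAdd ∈ Nim := hN ▸ AddSubgroup.mem_top _
    exact this
  have hL : IsIso f.fL := lattice_isIso M.lattice N.lattice f.fL ⟨fun x y hxy => mul_inv_eq_one.1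
    (hLinj _ (by rw [MonObj.mul_comp, GrpObj.inv_comp]; exact mul_inv_eq_one.2 hxy)), hLsurj⟩
  -- the semi-abelian component is surjective
  haveI := Deform.Borel.isClosedImmersion_of_mono f.fG
  obtain ⟨R, iR, ρ, hρ, hρf, hρs, hRl, hRq, hkρ⟩ := exists_quotient f.fG (fun X x y => ⟨y, by
    rw [Deform.Extension.mul_comm_of x, mul_inv_cancel_right]⟩)
  letI := iR
  haveI := hρ; haveI := hρf; haveI := hρs; haveI := hRl; haveI := hRq
  haveI := Deform.Chev.quasiCompact_of_grp ρ
  haveI : IsCommMonObj R := SemiAbExt.isCommMonObj_of_quotient ρ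
  haveI := isIso_eta_of_no_torsion (SemiAbExt.quotient ρ hS') fun n a hn ha => by
    obtain ⟨g, hg⟩ := exists_point_lift ρ a
    obtain ⟨b, hb⟩ := exists_lift_kernel f.fG ρ hkρ (g ^ n) (by rw [MonObj.pow_comp, hg, ha])
    obtain ⟨c, hc⟩ := exists_root hS hn b
    have ht : (g * (c ≫ f.fG)⁻¹) ^ n = 1 := by
      rw [_root_.mul_pow, _root_.inv_pow, ← MonObj.pow_comp, hc, hb, mul_inv_cancel]
    obtain ⟨x, a₀, y, -, hy⟩ := surj n hn 1 (g * (c ≫ f.fG)⁻¹) (by rw [MonObj.one_comp, _root_.one_mul, ht])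
    obtain ⟨y₀, rfl⟩ := hLsurj y
    have hfρ : f.fG ≫ ρ = 1 := by rw [hkρ.w]; exact Hom.one_def.symm
    rw [Category.assoc, ← f.comm, ← Category.assoc] at hy
    have := congrArg (fun z => z ≫ ρ) hy
    simpa [MonObj.mul_comp, GrpObj.inv_comp, Category.assoc, hfρ, MonObj.comp_one, hg] using this.symm
  obtain ⟨d, hd⟩ := exists_lift_kernel f.fG ρ hkρ (𝟙 N.G)
    (by rw [Category.id_comp]; exact SemiAbExt.eq_one_of_isIso_eta' ρ)
  exact ⟨hL, d, by rw [← cancel_mono f.fG, Category.assoc, hd, Category.comp_id, Category.id_comp], hd⟩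

end Groth.Agent.OneMotLib
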