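import Groth.Agent.DSPtsLib.Basic
import Groth.Agent.TwDescend.Const
import Groth.Prelude.Def_OneMot

/-!
# Lattices over an algebraically closed field
-/

noncomputable section

set_option autoImplicit false
set_option linter.style.haveILetI false
set_option linter.unusedSectionVars false
set_option backward.isDefEq.respectTransparency false
set_option backward.isDefEq.respectTransparency.types false

universe u

open CategoryTheory CategoryTheory.Limits MonoidalCategory CartesianMonoidalCategory MonObj GrpObj AlgebraicGeometry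

attribute [local instance] CategoryTheory.Hom.monoid CategoryTheory.Hom.group

namespace Groth.Agent.OneMotLib

set_option synthInstance.maxHeartbeats 400000

/-- Reindexing a disjoint union of copies. -/
def sigmaULift (Z : Scheme.{u}) (M : Type) : (∐ fun _ : ULift.{u} M => Z) ≅ ∐ fun _ : M => Z where
  hom := Sigma.desc fun m => Sigma.ι (fun _ : M => Z) m.down
  inv := Sigma.desc fun m => Sigma.ι (fun _ : ULift.{u} M => Z) (ULift.up m)
  hom_inv_id := Sigma.hom_ext _ _ fun m => by rw [Sigma.ι_desc_assoc, Sigma.ι_desc, Category.comp_id]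
  inv_hom_id := Sigma.hom_ext _ _ fun m => by rw [Sigma.ι_desc_assoc, Sigma.ι_desc, Category.comp_id]

theorem ι_sigmaULift (Z : Scheme.{u}) (M : Type) (m : ULift.{u} M) :
    Sigma.ι (fun _ : ULift.{u} M => Z) m ≫ (sigmaULift Z M).hom = Sigma.ι (fun _ : M => Z) m.down :=
  Sigma.ι_desc _ m

variable {k : Type u} [Field k] [IsAlgClosed k]

set_option maxHeartbeats 1000000 in
/-- Over an algebraically closed field a lattice is the disjoint union of its rational points, which form a free group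
of finite rank. -/
theorem exists_pts {L : Over (Spec (CommRingCat.of k))} [GrpObj L] (hL : OneMot.IsLattice L) :
    ∃ (r : ℕ) (Φ : Multiplicative (Fin r → ℤ) →* (𝟙_ (Over (Spec (CommRingCat.of k))) ⟶ L)),
      Function.Bijective Φ ∧ IsIso (Sigma.desc fun m => (Φ m).left) := by
  classical
  obtain ⟨S', f, hf, ⟨s₀, hs₀⟩, r, e, he⟩ := hL (IsLocalRing.closedPoint k)
  haveI := hf
  haveI : JacobsonSpace S' := LocallyOfFiniteType.jacobsonSpace f
  obtain ⟨s, -, hsc⟩ := nonempty_inter_closedPoints (Z := (Set.univ : Set S')) ⟨s₀, trivial⟩ isOpen_univ.isLocallyClosed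
  obtain ⟨σ, hσ⟩ := (pointEquivClosedPoint f).symm ⟨s, hsc⟩
  let M := Multiplicative (Fin r → ℤ)
  let σo : 𝟙_ (Over (Spec (CommRingCat.of k))) ⟶ (Over.map f).obj (𝟙_ (Over S')) :=
    Over.homMk σ (by
      show σ ≫ 𝟙 S' ≫ f = 𝟙 _
      rw [Category.id_comp]; exact hσ)
  let Φ : M →* (𝟙_ (Over (Spec (CommRingCat.of k))) ⟶ L) :=
    { toFun := fun m => σo ≫ DSPtsLib.theta f (TwC.pt S' M m ≫ e.inv)
      map_one' := by
        have h1 : TwC.pt S' M 1 ≫ e.inv = 1 := by
          have := he 1 1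
          rwa [_root_.mul_one, mul_eq_left] at this
        have h2 : DSPtsLib.theta f (1 : 𝟙_ (Over S') ⟶ Red.bc f L) = 1 := by
          have h := DSPtsLib.theta_mul f (1 : 𝟙_ (Over S') ⟶ Red.bc f L) 1
          rw [_root_.mul_one] at h
          exact left_eq_mul.1 h
        rw [h1, h2, MonObj.comp_one]
      map_mul' := fun m n => by rw [← he m n, DSPtsLib.theta_mul, MonObj.comp_mul] }
  have hΦ : ∀ m, (Φ m).left = σ ≫ Sigma.ι (fun _ : M => S') m ≫ e.inv.left ≫ pullback.fst L.hom f := fun m => by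
    show σ ≫ (DSPtsLib.theta f (TwC.pt S' M m ≫ e.inv)).left = _
    rw [DSPtsLib.theta_left, Over.comp_left, Category.assoc]
    rfl
  let M' := ULift.{u} M
  let el : (∐ fun _ : M' => S') ≅ pullback L.hom f := sigmaULift S' M ≪≫ (Over.forget S').mapIso e.symm
  have hel : el.hom ≫ pullback.snd L.hom f = Sigma.desc fun _ : M' => 𝟙 S' := by
    refine Sigma.hom_ext _ _ fun m => ?_
    have h1 : e.inv.left ≫ pullback.snd L.hom f = Sigma.desc fun _ : M => 𝟙 S' := Over.w e.inv
    show Sigma.ι (fun _ : M' => S') m ≫ ((sigmaULift S' M).hom ≫ e.inv.left) ≫ pullback.snd L.hom f = _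
    rw [Category.assoc, h1, reassoc_of% (ι_sigmaULift S' M m), Sigma.ι_desc, Sigma.ι_desc]
  have sq1 : IsPullback (el.hom ≫ pullback.fst L.hom f) (Sigma.desc fun _ : M' => 𝟙 S') L.hom f :=
    (IsPullback.of_hasPullback L.hom f).of_iso el.symm (Iso.refl _) (Iso.refl _) (Iso.refl _)
      (by simp [el]) (by simp [el, ← hel]) (by simp) (by simp)
  have sq := (TwDescend.isPullback_sigmaMap_desc σ M').paste_horiz sq1
  rw [hσ] at sq
  haveI := sq.isIso_fst_of_isIso
  have ha : (Sigma.desc fun m => (Φ m).left) =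
      (sigmaULift (Spec (CommRingCat.of k)) M).inv ≫ (Limits.Sigma.map fun _ : M' => σ) ≫ el.hom ≫ pullback.fst L.hom f := by
    rw [Iso.eq_inv_comp]
    refine Sigma.hom_ext _ _ fun m => ?_
    rw [reassoc_of% (ι_sigmaULift (Spec (CommRingCat.of k)) M m), Sigma.ι_desc, hΦ, Sigma.ι_map_assoc]
    show _ = σ ≫ Sigma.ι (fun _ : M' => S') m ≫ ((sigmaULift S' M).hom ≫ e.inv.left) ≫ _
    rw [Category.assoc, reassoc_of% (ι_sigmaULift S' M m)]
  haveI hiso : IsIso (Sigma.desc fun m => (Φ m).left) := by rw [ha]; infer_instance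
  refine ⟨r, Φ, ⟨fun m n h => ?_, fun x => ?_⟩, hiso⟩
  · have h1 : Sigma.ι (fun _ : M => Spec (CommRingCat.of k)) m = Sigma.ι (fun _ : M => Spec (CommRingCat.of k)) n := by
      rw [← cancel_mono (Sigma.desc fun m => (Φ m).left), Sigma.ι_desc, Sigma.ι_desc, h]
    by_contra hne
    have h2 := congrArg (fun φ : Spec (CommRingCat.of k) ⟶ ∐ fun _ : M => Spec (CommRingCat.of k) =>
      φ (IsLocalRing.closedPoint k)) h1
    exact hne (congrArg Sigma.fst ((sigmaι_eq_iff _ _ _ _ _).mp h2))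
  · let z : Spec (CommRingCat.of k) ⟶ ∐ fun _ : M' => Spec (CommRingCat.of k) :=
      x.left ≫ inv (Sigma.desc fun m => (Φ m).left) ≫ (sigmaULift (Spec (CommRingCat.of k)) M).inv
    haveI : PreconnectedSpace ↥(Spec (CommRingCat.of k)) := inferInstanceAs (PreconnectedSpace (PrimeSpectrum k))
    obtain ⟨i, hi⟩ := TwDescend.exists_index M' z
    have h3 : z ≫ ((sigmaULift (Spec (CommRingCat.of k)) M).hom ≫ Sigma.desc fun m => (Φ m).left) = x.left := by
      show (x.left ≫ inv _ ≫ (sigmaULift (Spec (CommRingCat.of k)) M).inv) ≫ (sigmaULift (Spec (CommRingCat.of k)) M).hom ≫ _ = _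
      simp
    refine ⟨i.down, Over.OverMorphism.ext ?_⟩
    have h4 : ((Sigma.ι (fun _ : M' => Spec (CommRingCat.of k)) i) ≫ (sigmaULift (Spec (CommRingCat.of k)) M).hom) ≫ (Sigma.desc fun m => (Φ m).left) =
        (Φ i.down).left := by rw [ι_sigmaULift, Sigma.ι_desc]
    have h5 : z ≫ (Sigma.desc fun _ : M' => 𝟙 (Spec (CommRingCat.of k))) = 𝟙 _ := by
      have hx : x.left ≫ L.hom = 𝟙 _ := Over.w x
      have hd : (sigmaULift (Spec (CommRingCat.of k)) M).hom ≫ (Sigma.desc fun m => (Φ m).left) ≫ L.hom =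
          Sigma.desc fun _ : M' => 𝟙 (Spec (CommRingCat.of k)) := Sigma.hom_ext _ _ fun m => by
        rw [← Category.assoc, ← Category.assoc, show (Sigma.ι _ m ≫ (sigmaULift (Spec (CommRingCat.of k)) M).hom) ≫ (Sigma.desc fun m => (Φ m).left) =
          (Φ m.down).left by rw [ι_sigmaULift, Sigma.ι_desc], Sigma.ι_desc]
        exact Over.w (Φ m.down)
      rw [← hd, reassoc_of% h3, hx]
      rfl
    rw [← h3, hi, h5, Category.id_comp, ← Category.assoc, h4]

variable {L X : Over (Spec (CommRingCat.of k))} [GrpObj L]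

/-- Morphisms out of a lattice are determined by the rational points. -/
theorem lattice_hom_ext (hL : OneMot.IsLattice L) {f g : L ⟶ X}
    (h : ∀ x : 𝟙_ (Over (Spec (CommRingCat.of k))) ⟶ L, x ≫ f = x ≫ g) : f = g := by
  obtain ⟨r, Φ, -, hiso⟩ := exists_pts hL
  refine Over.OverMorphism.ext ((cancel_epi (Sigma.desc fun m => (Φ m).left)).1 (Sigma.hom_ext _ _ fun m => ?_))
  rw [Sigma.ι_desc_assoc, Sigma.ι_desc_assoc, ← Over.comp_left, h, Over.comp_left]

/-- A morphism of lattices bijective on rational points is an isomorphism. -/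
theorem lattice_isIso (hL : OneMot.IsLattice L) [GrpObj X] (hX : OneMot.IsLattice X) (f : L ⟶ X)
    (hf : Function.Bijective fun x : 𝟙_ (Over (Spec (CommRingCat.of k))) ⟶ L => x ≫ f) : IsIso f := by
  obtain ⟨r, Φ, hΦ, hiso⟩ := exists_pts hX
  let E := Equiv.ofBijective _ hf
  let g : X ⟶ L := Over.homMk (inv (Sigma.desc fun m => (Φ m).left) ≫ Sigma.desc fun m => (E.symm (Φ m)).left) (by
    rw [Category.assoc, IsIso.inv_comp_eq]
    refine Sigma.hom_ext _ _ fun m => ?_
    rw [Sigma.ι_desc_assoc, Sigma.ι_desc_assoc]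
    exact (Over.w (E.symm (Φ m))).trans (Over.w (Φ m)).symm)
  have hg : ∀ m, Φ m ≫ g = E.symm (Φ m) := fun m => Over.OverMorphism.ext (by
    show (Φ m).left ≫ inv _ ≫ _ = _
    rw [← Sigma.ι_desc (fun m => (Φ m).left) m, Category.assoc, IsIso.hom_inv_id_assoc, Sigma.ι_desc])
  refine ⟨g, lattice_hom_ext hL fun x => ?_, lattice_hom_ext hX fun y => ?_⟩
  · obtain ⟨m, hm⟩ := hΦ.2 (x ≫ f)
    rw [← Category.assoc, ← hm, hg, hm, Category.comp_id]
    exact E.symm_apply_apply x
  · obtain ⟨m, rfl⟩ := hΦ.2 y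
    rw [← Category.assoc, hg, Category.comp_id]
    exact E.apply_symm_apply (Φ m)

/-- Rational points of a lattice: an element divisible by all positive integers is trivial, and there is no torsion. -/
theorem lattice_eq_one (hL : OneMot.IsLattice L) (x : 𝟙_ (Over (Spec (CommRingCat.of k))) ⟶ L)
    (h : ∀ n : ℕ, 1 ≤ n → ∃ y : 𝟙_ (Over (Spec (CommRingCat.of k))) ⟶ L, y ^ n = x) : x = 1 := by
  obtain ⟨r, Φ, hΦ, -⟩ := exists_pts hL
  obtain ⟨m, rfl⟩ := hΦ.2 x
  have hm : m = 1 := Multiplicative.toAdd.injective (funext fun i => by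
    obtain ⟨y, hy⟩ := h ((m.toAdd i).natAbs + 1) (by omega)
    obtain ⟨a, rfl⟩ := hΦ.2 y
    rw [← map_pow] at hy
    have hai := congrArg (fun z : Multiplicative (Fin r → ℤ) => z.toAdd i) (hΦ.1 hy)
    simp only [toAdd_pow, Pi.smul_apply, nsmul_eq_mul] at hai
    by_contra hne
    have h0 : (((m.toAdd i).natAbs + 1 : ℕ) : ℤ) ∣ m.toAdd i := ⟨_, hai.symm⟩
    have h1 := Nat.le_of_dvd (Int.natAbs_pos.2 hne) (Int.natCast_dvd.1 h0)
    omega)
  rw [hm, map_one]

theorem lattice_torsion_free (hL : OneMot.IsLattice L) (x : 𝟙_ (Over (Spec (CommRingCat.of k))) ⟶ L) {n : ℕ}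
    (hn : 0 < n) (h : x ^ n = 1) : x = 1 := by
  obtain ⟨r, Φ, hΦ, -⟩ := exists_pts hL
  obtain ⟨m, rfl⟩ := hΦ.2 x
  rw [← map_pow, ← map_one Φ] at h
  have h1 := hΦ.1 h
  have hm : m = 1 := Multiplicative.toAdd.injective (funext fun i => by
    have hi := congrArg (fun z : Multiplicative (Fin r → ℤ) => z.toAdd i) h1
    simp only [toAdd_pow, Pi.smul_apply, nsmul_eq_mul, toAdd_one, Pi.zero_apply, mul_eq_zero, Nat.cast_eq_zero] at hi
    exact hi.resolve_left hn.ne')
  rw [hm, map_one]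

end Groth.Agent.OneMotLib
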