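import Groth.Agent.OneMotLib.Ext
import Groth.Agent.OneMotLib.Lattice

/-!
# Torsion realisations in multiplicative notation
-/

noncomputable section

set_option autoImplicit false
set_option linter.style.haveILetI false
set_option linter.unusedSectionVars false
set_option backward.isDefEq.respectTransparency false
set_option backward.isDefEq.respectTransparency.types false

universe u

open CategoryTheory CategoryTheory.Limits MonoidalCategory CartesianMonoidalCategory MonObj GrpObj AlgebraicGeometry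

attribute [local instance] CategoryTheory.Hom.monoid CategoryTheory.Hom.group

namespace Groth.Agent.OneMotLib

open OneMot

variable {k : Type u} [Field k]

/-- The rational point. -/
abbrev pnt1 (k : Type u) [Field k] : Over (Spec (CommRingCat.of k)) := Over.mk (𝟙 (Spec (CommRingCat.of k)))

variable {M N : OneMot.Motive (Spec (CommRingCat.of k))} {m : ℕ} {T : Over (Spec (CommRingCat.of k))}

/-- An admissible pair given multiplicatively. -/
def mkPair (x : T ⟶ M.L) (g : T ⟶ M.G) (h : (x ≫ M.u) * g ^ m = 1) : OneMot.tzPairs M m T :=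
  ⟨(Additive.ofMul x, Additive.ofMul g), congrArg Additive.ofMul (eq_inv_of_mul_eq_one_left h)⟩

theorem pair_spec (p : OneMot.tzPairs M m T) : (p.1.1.toMul ≫ M.u) * p.1.2.toMul ^ m = 1 :=
  mul_eq_one_iff_eq_inv.2 (congrArg Additive.toMul p.2)

/-- Equality in the realisation. -/
theorem mk_eq_mk {p q : OneMot.tzPairs M m T}
    (h : (QuotientAddGroup.mk p : OneMot.tzPairs M m T ⧸ OneMot.tzRel M m T) = QuotientAddGroup.mk q) :
    ∃ y : T ⟶ M.L, p.1.1.toMul * y ^ m = q.1.1.toMul ∧ p.1.2.toMul * (y ≫ M.u)⁻¹ = q.1.2.toMul := by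
  obtain ⟨y, hy⟩ := QuotientAddGroup.eq.1 h
  refine ⟨y.toMul, ?_, ?_⟩
  · have h1 : y.toMul ^ m = p.1.1.toMul⁻¹ * q.1.1.toMul := congrArg (fun z => (Prod.fst z).toMul) hy
    rw [h1, mul_inv_cancel_left]
  · have h2 : (y.toMul ≫ M.u)⁻¹ = p.1.2.toMul⁻¹ * q.1.2.toMul := congrArg (fun z => (Prod.snd z).toMul) hy
    rw [h2, mul_inv_cancel_left]

theorem mk_eq_mk' {p q : OneMot.tzPairs M m T} (y : T ⟶ M.L) (h1 : p.1.1.toMul * y ^ m = q.1.1.toMul)
    (h2 : p.1.2.toMul * (y ≫ M.u)⁻¹ = q.1.2.toMul) :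
    (QuotientAddGroup.mk p : OneMot.tzPairs M m T ⧸ OneMot.tzRel M m T) = QuotientAddGroup.mk q := by
  refine QuotientAddGroup.eq.2 ⟨Additive.ofMul y, Prod.ext ?_ ?_⟩
  · show Additive.ofMul (y ^ m) = Additive.ofMul (p.1.1.toMul⁻¹ * q.1.1.toMul)
    rw [← h1, inv_mul_cancel_left]
  · show Additive.ofMul ((y ≫ M.u)⁻¹) = Additive.ofMul (p.1.2.toMul⁻¹ * q.1.2.toMul)
    rw [← h2, inv_mul_cancel_left]

theorem tzMap_fst (f : OneMot.Motive.Hom M N) (p : OneMot.tzPairs M m T) :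
    ∃ q : OneMot.tzPairs N m T, OneMot.tzMap m T f (QuotientAddGroup.mk p) = QuotientAddGroup.mk q ∧
      q.1.1.toMul = p.1.1.toMul ≫ f.fL ∧ q.1.2.toMul = p.1.2.toMul ≫ f.fG :=
  ⟨⟨_, OneMot.tzPairs_map_mem m T f p⟩, rfl, rfl, rfl⟩

variable [IsAlgClosed k]

/-- Points of the lattice extend to admissible pairs. -/
theorem exists_pair (hm : 0 < m) (x : pnt1 k ⟶ M.L) : ∃ g : pnt1 k ⟶ M.G, (x ≫ M.u) * g ^ m = 1 := by
  obtain ⟨hs, hq, -, -, -, -, -, -, hS⟩ := semiAb_props M.semiAb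
  haveI := hs; haveI := hq
  obtain ⟨g, hg⟩ := exists_root hS hm (x ≫ M.u)⁻¹
  exact ⟨g, hg ▸ mul_inv_cancel (x ≫ M.u)⟩

theorem hom_eq [CharZero k] (f g : OneMot.Motive.Hom M N)
    (h : ∀ m : ℕ, 1 ≤ m → OneMot.tzMap m (pnt1 k) f = OneMot.tzMap m (pnt1 k) g) : f = g := by
  have key : ∀ (m : ℕ), 1 ≤ m → ∀ (x : pnt1 k ⟶ M.L) (a : pnt1 k ⟶ M.G), (x ≫ M.u) * a ^ m = 1 →
      ∃ y : pnt1 k ⟶ N.L, (x ≫ f.fL) * y ^ m = x ≫ g.fL ∧ (a ≫ f.fG) * (y ≫ N.u)⁻¹ = a ≫ g.fG := by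
    intro m hm x a hxa
    obtain ⟨q₁, hq₁, hq₁1, hq₁2⟩ := tzMap_fst f (mkPair x a hxa)
    obtain ⟨q₂, hq₂, hq₂1, hq₂2⟩ := tzMap_fst g (mkPair x a hxa)
    obtain ⟨y, hy1, hy2⟩ := mk_eq_mk (hq₁.symm.trans ((DFunLike.congr_fun (h m hm) _).trans hq₂))
    rw [hq₁1, hq₂1] at hy1
    rw [hq₁2, hq₂2] at hy2
    exact ⟨y, hy1, hy2⟩
  refine OneMot.Motive.Hom.ext' (lattice_hom_ext M.lattice fun x => ?_) ?_
  · refine inv_mul_eq_one.1 (lattice_eq_one N.lattice ((x ≫ f.fL)⁻¹ * (x ≫ g.fL)) fun m hm => ?_)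
    obtain ⟨a, ha⟩ := exists_pair (m := m) hm x
    obtain ⟨y, hy, -⟩ := key m hm x a ha
    exact ⟨y, by rw [← hy, inv_mul_cancel_left]⟩
  · haveI : IsMonHom (f.fG / g.fG) := WittEndoLib.isMonHom_of_mul _ fun _ a b => by
      simp only [GrpObj.comp_div, MonObj.mul_comp, mul_div_mul_comm]
    refine div_eq_one.1 (hom_eq_one M.semiAb N.semiAb (f.fG / g.fG) fun n a hn ha => ?_)
    obtain ⟨y, hy1, hy2⟩ := key n hn 1 a (by rw [MonObj.one_comp, ha, _root_.one_mul])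
    have hy : y = 1 := lattice_torsion_free N.lattice y hn (by simpa [MonObj.one_comp] using hy1)
    rw [hy, MonObj.one_comp, inv_one, _root_.mul_one] at hy2
    rw [GrpObj.comp_div, hy2, div_self']

end Groth.Agent.OneMotLib
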